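/-
Coset enumeration certificate, found by a computer search.
-/
import Cfsg.Agent.Lib.Spor.Hall54.Dih.Data

namespace CfsgLib.Spor.Hall54.Dih

open CfsgLib.Spor.TC

def scodes0_0 : List ℕ :=
  [0x1,
   0x1,
   0x1,
   0x1,
   0x1,
   0x70000300002000060000a00002000040000100002]

def scodes0_ : List ℕ :=
  scodes0_0

set_option maxRecDepth 100000 in
theorem steps0 : cert.StepsOK 0 6 :=
  Cert.StepsOK.of_check _ (codes := scodes0_) (by decide +kernel)

def rcodes0_0 : List ℕ :=
  [0x20000300000000002,
   0x40000400000100001,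
   0x30000100000600005,
   0x50000200000800006,
   0xb0000600000700003,
   0xa0000500000900004]

def rcodes0_ : List ℕ :=
  rcodes0_0

set_option maxRecDepth 100000 in
theorem rows0 : cert.RowsOK 6 6 0 6 :=
  Cert.RowsOK.of_check _ (codes := rcodes0_) (by decide +kernel)

end CfsgLib.Spor.Hall54.Dih
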